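import Groth.Agent.FinSub96.Main

/-!
Coordinates on the additive and multiplicative groups over a field, and the resulting description of
their finite subgroup schemes.
-/

universe u

open CategoryTheory MonoidalCategory CartesianMonoidalCategory MonObj AlgebraicGeometry
open Polynomial TensorProduct Groth.Agent.FinSub96

set_option autoImplicit false

namespace Groth.Agent.FinSub96

variable {K : Type u} [Field K] {G H : Over (Spec (CommRingCat.of K))}

theorem exists_coord_Ga :
    ∃ e : Red.Ga (Spec (CommRingCat.of K)) ≅ sp (K := K) K[X],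
      ∀ (T : Over (Spec (CommRingCat.of K))) (x : T ⟶ Red.Ga (Spec (CommRingCat.of K))),
        val e X x = Red.gaFn x := by
  let fwd := ofHom (T := Red.Ga (Spec (CommRingCat.of K)))
    (aeval (Red.gaFn (𝟙 (Red.Ga (Spec (CommRingCat.of K))))) : K[X] →ₐ[K] _)
  have hfwd : ∀ (T : Over (Spec (CommRingCat.of K))) (x : T ⟶ Red.Ga (Spec (CommRingCat.of K))),
      pt (x ≫ fwd) X = Red.gaFn x := by
    intro T x
    rw [pt_comp, pt_ofHom, AlgHom.comp_apply, aeval_X, secMap_apply]
    exact (RedPts82.gaFn_comp x (𝟙 _)).symm.trans (congrArg Red.gaFn (Category.comp_id x))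
  obtain ⟨bwd, hbwd⟩ := RedPts82.gaFn_surjective (S := Spec (CommRingCat.of K))
    (X := sp (K := K) K[X]) (toSec K[X] X)
  refine ⟨⟨fwd, bwd, RedPts82.gaFn_injective ?_, pt_injective (Polynomial.algHom_ext ?_)⟩, hfwd⟩
  · have h1 := hfwd _ (𝟙 _)
    rw [Category.id_comp] at h1
    rw [RedPts82.gaFn_comp, hbwd, ← h1]
    rfl
  · rw [hfwd, hbwd, pt_id]

/-- Laurent polynomials. -/
abbrev Lau (K : Type u) [Field K] : Type u := Localization.Away (X : K[X])

/-- The coordinate of the multiplicative group. -/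
noncomputable abbrev lauX (K : Type u) [Field K] : Lau K := algebraMap K[X] (Lau K) X

theorem lau_ext {B : Type u} [CommRing B] [Algebra K B] (φ φ' : Lau K →ₐ[K] B)
    (h : φ (lauX K) = φ' (lauX K)) : φ = φ' := by
  refine IsLocalization.algHom_ext (Submonoid.powers (X : K[X])) (Polynomial.algHom_ext ?_)
  exact h

theorem isUnit_lauX : IsUnit (lauX K) := IsLocalization.Away.algebraMap_isUnit (X : K[X])

theorem exists_lau_hom {B : Type u} [CommRing B] [Algebra K B] {b : B} (hb : IsUnit b) :
    ∃ φ : Lau K →ₐ[K] B, φ (lauX K) = b := by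
  have hu : ∀ y : Submonoid.powers (X : K[X]), IsUnit ((aeval b : K[X] →ₐ[K] B) y) := by
    rintro ⟨y, k, rfl⟩
    simpa using hb.pow k
  refine ⟨IsLocalization.liftAlgHom (S := Lau K) hu, ?_⟩
  show IsLocalization.lift hu (algebraMap K[X] (Lau K) X) = b
  rw [IsLocalization.lift_eq]
  exact aeval_X b

theorem exists_coord_Gm :
    ∃ e : Red.Gm (Spec (CommRingCat.of K)) ≅ sp (K := K) (Lau K),
      ∀ (T : Over (Spec (CommRingCat.of K))) (x : T ⟶ Red.Gm (Spec (CommRingCat.of K))),
        val e (lauX K) x = Red.gmFn x := by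
  obtain ⟨φ, hφ⟩ := exists_lau_hom (K := K)
    (RedPts82.gmFn_isUnit (𝟙 (Red.Gm (Spec (CommRingCat.of K)))))
  have hfwd : ∀ (T : Over (Spec (CommRingCat.of K))) (x : T ⟶ Red.Gm (Spec (CommRingCat.of K))),
      pt (x ≫ ofHom φ) (lauX K) = Red.gmFn x := by
    intro T x
    rw [pt_comp, pt_ofHom, AlgHom.comp_apply, hφ, secMap_apply]
    exact (RedPts82.gmFn_comp x (𝟙 _)).symm.trans (congrArg Red.gmFn (Category.comp_id x))
  obtain ⟨bwd, hbwd⟩ := RedPts82.gmFn_surjective (S := Spec (CommRingCat.of K))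
    (X := sp (K := K) (Lau K)) ((isUnit_lauX (K := K)).map (toSec (Lau K)))
  refine ⟨⟨ofHom φ, bwd, RedPts82.gmFn_injective ?_, pt_injective (lau_ext _ _ ?_)⟩, hfwd⟩
  · have h1 := hfwd _ (𝟙 _)
    rw [Category.id_comp] at h1
    rw [RedPts82.gmFn_comp, hbwd, ← h1]
    rfl
  · rw [hfwd, hbwd, pt_id]

theorem integralElem_of_eq {A : Type u} [CommRing A] (ψ : A →+* A) (a : A) :
    ψ.IsIntegralElem (ψ a) := ψ.isIntegralElem_map

theorem comap_surjective_of {A : Type u} [CommRing A] (ψ : A →+* A) (hint : ψ.IsIntegral)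
    (hinj : Function.Injective ψ) : Function.Surjective (PrimeSpectrum.comap ψ) :=
  hint.comap_surjective hinj

/-- A finite subgroup of a group with additive coordinate is the kernel of a faithfully flat
endomorphism. -/
theorem exists_endo_Ga [GrpObj G] [GrpObj H] (e : G ≅ sp (K := K) K[X])
    (hadd : ∀ (T : Over (Spec (CommRingCat.of K))) (x y : T ⟶ G),
      val e X (x * y) = val e X x + val e X y)
    (i : H ⟶ G) [IsMonHom i] [Mono i] [IsFinite H.hom] :
    ∃ φ : G ⟶ G, IsMonHom φ ∧ AlgGrp.IsKernel i φ ∧ Flat φ.left ∧ Surjective φ.left := by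
  have := finite_sec (H := H)
  have := nontrivial_sec (H := H)
  have hgen : Algebra.adjoin K {val e X i} = ⊤ := by
    rw [Algebra.adjoin_singleton_eq_range_aeval, AlgHom.range_eq_top]
    have h1 : aeval (val e X i) = pt (i ≫ e.hom) := Polynomial.algHom_ext (by simp; rfl)
    rw [h1]
    exact pt_surjective e i
  have := isIso_toSp (H := H)
  have hlaw := tensor_law_add e X i (inv (toSp H)) _ (secMap_inv_toSp (H := H) _) hadd
  obtain ⟨h0, hD⟩ := taylor_of_additive hgen hlaw
  set f := minpoly K (val e X i) with hf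
  have hmon : f.Monic := minpoly.monic (isIntegral_gen (h := val e X i))
  have hdeg : 0 < f.natDegree := natDegree_minpoly_pos
  have hinj : Function.Injective (aeval f : K[X] →ₐ[K] K[X]) := by
    rw [injective_iff_map_eq_zero]
    intro p hp
    rw [← comp_eq_aeval, comp_eq_zero_iff] at hp
    rcases hp with hp | ⟨-, hp⟩
    · exact hp
    · rw [hp, natDegree_C] at hdeg
      exact absurd hdeg (lt_irrefl 0)
  have hX : (aeval f : K[X] →ₐ[K] K[X]).toRingHom.IsIntegralElem X := by
    refine ⟨f.map C - C X, ?_, ?_⟩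
    · refine (hmon.map C).sub_of_left ?_
      rw [degree_map_eq_of_injective C_injective, degree_eq_natDegree hmon.ne_zero]
      exact degree_C_le.trans_lt (by exact_mod_cast hdeg)
    · rw [eval₂_sub, eval₂_C, eval₂_map]
      show eval₂ _ X f - (aeval f) X = 0
      rw [aeval_X, sub_eq_zero]
      refine Eq.trans ?_ eval₂_C_X
      congr 1
      exact RingHom.ext fun k => aeval_C f k
  have hint : (aeval f : K[X] →ₐ[K] K[X]).toRingHom.IsIntegral := by
    intro p
    induction p using Polynomial.induction_on with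
    | C a =>
      have hh := (aeval f : K[X] →ₐ[K] K[X]).toRingHom.isIntegralElem_map (x := C a)
      rwa [show (aeval f : K[X] →ₐ[K] K[X]).toRingHom (C a) = C a from aeval_C f a] at hh
    | add p q hp hq => exact hp.add _ hq
    | monomial n a ih =>
      rw [pow_succ, ← _root_.mul_assoc]
      exact ih.mul _ hX
  refine exists_endo e X (fun φ φ' h => Polynomial.algHom_ext h) i hgen f (aeval f)
    (by rw [aeval_X, aeval_X_left_apply]) (flat_of_injective _ hinj)
    (comap_surjective_of _ hint hinj) ?_ ?_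
  · intro T x y x' y' hx hy
    rw [hadd, hadd, hx, hy, aeval_add_of_hasseDeriv h0 hD]
  · intro T x
    have hone := hadd T 1 1
    rw [_root_.mul_one, right_eq_add] at hone
    rw [hone]

/-- A finite subgroup of a group with multiplicative coordinate is the kernel of a faithfully flat
endomorphism. -/
theorem exists_endo_Gm [GrpObj G] [GrpObj H] (e : G ≅ sp (K := K) (Lau K))
    (hmul : ∀ (T : Over (Spec (CommRingCat.of K))) (x y : T ⟶ G),
      val e (lauX K) (x * y) = val e (lauX K) x * val e (lauX K) y)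
    (i : H ⟶ G) [IsMonHom i] [Mono i] [IsFinite H.hom] :
    ∃ φ : G ⟶ G, IsMonHom φ ∧ AlgGrp.IsKernel i φ ∧ Flat φ.left ∧ Surjective φ.left := by
  have := finite_sec (H := H)
  have := nontrivial_sec (H := H)
  set h := val e (lauX K) i with hh
  have hu : IsUnit h := (isUnit_lauX (K := K)).map (pt (i ≫ e.hom))
  have hgen : Algebra.adjoin K {h} = ⊤ := by
    rw [eq_top_iff]
    intro a _
    obtain ⟨r, rfl⟩ := pt_surjective e i a
    obtain ⟨⟨p, y, k, rfl⟩, hy⟩ := IsLocalization.surj (Submonoid.powers (X : K[X])) r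
    have h1 : pt (i ≫ e.hom) r * h ^ k = aeval h p := by
      have := congrArg (pt (i ≫ e.hom)) hy
      simp only [map_pow, map_mul] at this
      rw [hh, val, this, aeval_algHom_apply]
      congr 1
      exact DFunLike.congr_fun (Polynomial.algHom_ext (by simp) :
        IsScalarTower.toAlgHom K K[X] (Lau K) = aeval (lauX K)) p
    have hinv : ((hu.unit⁻¹ : Γ(H.left, ⊤)ˣ) : Γ(H.left, ⊤)) ∈ Algebra.adjoin K {h} := by
      let L : Algebra.adjoin K {h} →ₗ[K] Algebra.adjoin K {h} :=
        LinearMap.mulLeft K ⟨h, Algebra.self_mem_adjoin_singleton K h⟩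
      have : Module.Finite K (Algebra.adjoin K {h}) :=
        Module.Finite.of_injective (Algebra.adjoin K {h}).val.toLinearMap Subtype.val_injective
      have hs : Function.Surjective L := LinearMap.surjective_of_injective
        (fun x y hxy => Subtype.ext (hu.mul_left_cancel (congrArg Subtype.val hxy)))
      obtain ⟨x, hx⟩ := hs 1
      have hx' : h * (x : Γ(H.left, ⊤)) = 1 := congrArg Subtype.val hx
      rw [Units.inv_eq_of_mul_eq_one_right (a := (x : Γ(H.left, ⊤))) (u := hu.unit) hx']
      exact x.2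
    have h2 : pt (i ≫ e.hom) r = aeval h p * ((hu.unit⁻¹ : Γ(H.left, ⊤)ˣ) : Γ(H.left, ⊤)) ^ k := by
      rw [← h1, _root_.mul_assoc, ← mul_pow, IsUnit.mul_val_inv, one_pow, _root_.mul_one]
    rw [h2]
    refine mul_mem ?_ (pow_mem hinv k)
    rw [Algebra.adjoin_singleton_eq_range_aeval]
    exact ⟨p, rfl⟩
  have := isIso_toSp (H := H)
  have hlaw := tensor_law_mul e (lauX K) i (inv (toSp H)) h (secMap_inv_toSp (H := H) _) hmul
  set n := (minpoly K h).natDegree with hn
  have hf : minpoly K h = X ^ n - 1 := eq_X_pow_sub_one hgen hu hlaw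
  have hn0 : 0 < n := natDegree_minpoly_pos
  obtain ⟨ψ, hψ⟩ := exists_lau_hom (K := K) ((isUnit_lauX (K := K)).pow n)
  have hψp : ∀ p : K[X], ψ (algebraMap K[X] (Lau K) p) = algebraMap K[X] (Lau K) (expand K n p) := by
    intro p
    refine DFunLike.congr_fun (Polynomial.algHom_ext ?_ :
      ψ.comp (IsScalarTower.toAlgHom K K[X] (Lau K)) =
        (IsScalarTower.toAlgHom K K[X] (Lau K)).comp (expand K n)) p
    simpa using hψ
  have hX : ∀ z : Submonoid.powers (X : K[X]), IsUnit (algebraMap K[X] (Lau K) z) :=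
    fun z => IsLocalization.map_units _ z
  have hinj : Function.Injective ψ := by
    rw [injective_iff_map_eq_zero]
    intro r hr
    obtain ⟨⟨p, y⟩, hy⟩ := IsLocalization.surj (Submonoid.powers (X : K[X])) r
    have := congrArg ψ hy
    rw [map_mul, hr, zero_mul, hψp] at this
    have hle : Submonoid.powers (X : K[X]) ≤ nonZeroDivisors K[X] :=
      powers_le_nonZeroDivisors_of_noZeroDivisors X_ne_zero
    have hp0 : p = 0 := (expand_eq_zero hn0).mp
      ((IsLocalization.injective (Lau K) hle) (by rw [← this, map_zero]))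
    rw [hp0, map_zero] at hy
    exact (hX y).mul_left_eq_zero.mp hy
  have hint : ψ.toRingHom.IsIntegral := by
    have hc : ψ.toRingHom.IsIntegralElem (lauX K) :=
      ⟨X ^ n - C (lauX K), monic_X_pow_sub_C _ hn0.ne', by
        rw [eval₂_sub, eval₂_X_pow, eval₂_C]
        exact sub_eq_zero.mpr hψ.symm⟩
    have hc' : ψ.toRingHom.IsIntegralElem
        (((isUnit_lauX (K := K)).unit⁻¹ : (Lau K)ˣ) : Lau K) :=
      ⟨X ^ n - C (((isUnit_lauX (K := K)).unit⁻¹ : (Lau K)ˣ) : Lau K), monic_X_pow_sub_C _ hn0.ne', by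
        rw [eval₂_sub, eval₂_X_pow, eval₂_C, sub_eq_zero]
        apply ((isUnit_lauX (K := K)).pow n).mul_left_cancel
        rw [← mul_pow, IsUnit.mul_val_inv, one_pow]
        show 1 = lauX K ^ n * ψ _
        rw [← hψ, ← map_mul, IsUnit.mul_val_inv, map_one]⟩
    have hpoly : ∀ p : K[X], ψ.toRingHom.IsIntegralElem (algebraMap K[X] (Lau K) p) := by
      intro p
      induction p using Polynomial.induction_on with
      | C a =>
        have h1 := ψ.toRingHom.isIntegralElem_map (x := algebraMap K (Lau K) a)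
        rwa [show ψ.toRingHom (algebraMap K (Lau K) a) = algebraMap K[X] (Lau K) (C a) from
          (ψ.commutes a).trans (IsScalarTower.algebraMap_apply K K[X] (Lau K) a)] at h1
      | add p q hp hq => rw [map_add]; exact hp.add _ hq
      | monomial m a ih => rw [pow_succ, ← _root_.mul_assoc, map_mul]; exact ih.mul _ hc
    intro r
    obtain ⟨⟨p, y, k, rfl⟩, hy⟩ := IsLocalization.surj (Submonoid.powers (X : K[X])) r
    have hr : r = algebraMap K[X] (Lau K) p *
        (((isUnit_lauX (K := K)).unit⁻¹ : (Lau K)ˣ) : Lau K) ^ k := by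
      rw [← hy]
      show r = r * algebraMap K[X] (Lau K) (X ^ k) * _
      rw [map_pow, _root_.mul_assoc, ← mul_pow, IsUnit.mul_val_inv, one_pow, _root_.mul_one]
    rw [hr]
    refine (hpoly p).mul _ ?_
    clear hy hr
    induction k with
    | zero => rw [pow_zero]; exact ψ.toRingHom.isIntegralElem_one
    | succ k ih => rw [pow_succ]; exact ih.mul _ hc'
  have : IsDomain (Lau K) := IsLocalization.isDomain_localization
    (powers_le_nonZeroDivisors_of_noZeroDivisors X_ne_zero)
  have : IsDedekindDomain (Lau K) := IsLocalization.isDedekindDomain K[X]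
    (powers_le_nonZeroDivisors_of_noZeroDivisors X_ne_zero) _
  refine exists_endo e (lauX K) (fun φ φ' hφ => lau_ext φ φ' hφ) i hgen (X ^ n) ψ
    (by rw [hψ, map_pow, aeval_X]) (flat_of_injective _ hinj) (comap_surjective_of _ hint hinj)
    ?_ ?_
  · intro T x y x' y' hx hy
    rw [hmul, hmul, hx, hy, map_pow, map_pow, map_pow, aeval_X, aeval_X, aeval_X, mul_pow]
  · intro T x
    have hone : val e (lauX K) (1 : T ⟶ G) = 1 := by
      have h1 := hmul T 1 1
      rw [_root_.mul_one] at h1
      exact (((isUnit_lauX (K := K)).map (pt ((1 : T ⟶ G) ≫ e.hom))).mul_eq_left.mp h1.symm)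
    rw [hone, ← hh, hf, map_sub, map_pow, aeval_X, map_one, sub_eq_zero]

theorem val_trans {G' : Over (Spec (CommRingCat.of K))} {R : Type u} [CommRing R] [Algebra K R]
    (a : G ≅ G') (e : G' ≅ sp R) (c : R) {T : Over (Spec (CommRingCat.of K))} (x : T ⟶ G) :
    val (a ≪≫ e) c x = val e c (x ≫ a.hom) := by
  rw [val, val, Iso.trans_hom, Category.assoc]

theorem exists_endo_of_iso [GrpObj G] [GrpObj H]
    (hG : Nonempty (Grp.mk G ≅ Grp.mk (Red.Ga (Spec (CommRingCat.of K)))) ∨
      Nonempty (Grp.mk G ≅ Grp.mk (Red.Gm (Spec (CommRingCat.of K)))))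
    (i : H ⟶ G) [IsMonHom i] [Mono i] [IsFinite H.hom] :
    ∃ φ : G ⟶ G, IsMonHom φ ∧ AlgGrp.IsKernel i φ ∧ Flat φ.left ∧ Surjective φ.left := by
  rcases hG with ⟨⟨a⟩⟩ | ⟨⟨a⟩⟩
  · obtain ⟨e, he⟩ := exists_coord_Ga (K := K)
    let a' : G ≅ Red.Ga (Spec (CommRingCat.of K)) := ((Grp.forget _).mapIso a)
    have : IsMonHom a'.hom := a.hom.hom.isMonHom_hom
    refine exists_endo_Ga (a' ≪≫ e) (fun T x y => ?_) i
    rw [val_trans, val_trans, val_trans, he, he, he, MonObj.mul_comp x y a'.hom, RedPts82.gaFn_mul]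
  · obtain ⟨e, he⟩ := exists_coord_Gm (K := K)
    let a' : G ≅ Red.Gm (Spec (CommRingCat.of K)) := ((Grp.forget _).mapIso a)
    have : IsMonHom a'.hom := a.hom.hom.isMonHom_hom
    refine exists_endo_Gm (a' ≪≫ e) (fun T x y => ?_) i
    rw [val_trans, val_trans, val_trans, he, he, he, MonObj.mul_comp x y a'.hom, RedPts82.gmFn_mul]

end Groth.Agent.FinSub96
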