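import Mathlib

/-!
Polynomial identities cutting out finite subgroups of the additive and multiplicative groups.
-/

universe u

open Polynomial TensorProduct

set_option autoImplicit false

namespace Groth.Agent.FinSub96

variable {K : Type u} [Field K] {A : Type u} [CommRing A] [Algebra K A] {h : A}

theorem aeval_surjective (hgen : Algebra.adjoin K {h} = ⊤) :
    Function.Surjective (aeval h : K[X] →ₐ[K] A) := by
  rw [← AlgHom.range_eq_top, ← Algebra.adjoin_singleton_eq_range_aeval, hgen]

variable [Module.Finite K A]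

theorem isIntegral_gen : IsIntegral K h := IsIntegral.of_finite K h

/-- A finite algebra generated by one element is the quotient by its minimal polynomial. -/
noncomputable def presentation (hgen : Algebra.adjoin K {h} = ⊤) :
    AdjoinRoot (minpoly K h) ≃ₐ[K] A := by
  have hev : (minpoly K h).eval₂ (Algebra.ofId K A : K →+* A) h = 0 := minpoly.aeval K h
  refine AlgEquiv.ofBijective
    (AdjoinRoot.liftAlgHom (minpoly K h) (Algebra.ofId K A) h hev) ⟨?_, ?_⟩
  · rw [injective_iff_map_eq_zero]
    intro a ha
    obtain ⟨g, rfl⟩ := AdjoinRoot.mk_surjective a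
    rw [AdjoinRoot.liftAlgHom_mk] at ha
    exact AdjoinRoot.mk_eq_zero.mpr (minpoly.dvd K h ha)
  · intro a
    obtain ⟨g, rfl⟩ := aeval_surjective hgen a
    exact ⟨AdjoinRoot.mk _ g, by rw [AdjoinRoot.liftAlgHom_mk]; rfl⟩

theorem presentation_root (hgen : Algebra.adjoin K {h} = ⊤) :
    presentation hgen (AdjoinRoot.root (minpoly K h)) = h := by
  exact AdjoinRoot.liftAlgHom_root (p := minpoly K h) (Algebra.ofId K A) h (minpoly.aeval K h)

/-- The powers of the generator below the degree of its minimal polynomial. -/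
noncomputable def gens (hgen : Algebra.adjoin K {h} = ⊤) : PowerBasis K A :=
  (AdjoinRoot.powerBasis (minpoly.ne_zero (isIntegral_gen (h := h)))).map (presentation hgen)

theorem gens_gen (hgen : Algebra.adjoin K {h} = ⊤) : (gens hgen).gen = h :=
  presentation_root hgen

theorem gens_dim (hgen : Algebra.adjoin K {h} = ⊤) : (gens hgen).dim = (minpoly K h).natDegree := rfl

theorem exists_functional (hgen : Algebra.adjoin K {h} = ⊤) (i : ℕ)
    (hi : i < (minpoly K h).natDegree) :
    ∃ φ : A →ₗ[K] K, (∀ k < (minpoly K h).natDegree, φ (h ^ k) = if k = i then 1 else 0) ∧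
      φ (h ^ (minpoly K h).natDegree) = - (minpoly K h).coeff i := by
  have hlt : ∀ k < (minpoly K h).natDegree,
      (gens hgen).basis.coord ⟨i, hi⟩ (h ^ k) = if k = i then 1 else 0 := by
    intro k hk
    have e : h ^ k = (gens hgen).basis ⟨k, hk⟩ := by rw [PowerBasis.basis_eq_pow, gens_gen]
    rw [e, Module.Basis.coord_apply, Module.Basis.repr_self, Finsupp.single_apply]
    simp [Fin.ext_iff]
  refine ⟨(gens hgen).basis.coord ⟨i, hi⟩, hlt, ?_⟩
  have hz := congrArg ((gens hgen).basis.coord ⟨i, hi⟩) (minpoly.aeval K h)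
  rw [aeval_eq_sum_range, map_sum, map_zero, Finset.sum_range_succ, map_smul,
    (minpoly.monic (isIntegral_gen (h := h))).coeff_natDegree, one_smul] at hz
  rw [Finset.sum_eq_single i] at hz
  · rw [map_smul, hlt i hi, if_pos rfl, smul_eq_mul, mul_one] at hz
    exact eq_neg_of_add_eq_zero_right hz
  · intro k hk hki
    rw [map_smul, hlt k (Finset.mem_range.mp hk), if_neg hki, smul_zero]
  · exact fun hni => absurd (Finset.mem_range.mpr hi) hni

theorem hasseDeriv_map_ring {B : Type u} [CommRing B] (φ : K →+* B) (j : ℕ) (f : K[X]) :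
    hasseDeriv j (f.map φ) = (hasseDeriv j f).map φ := by
  ext k
  simp [hasseDeriv_coeff]

theorem natDegree_minpoly_pos [Nontrivial A] : 0 < (minpoly K h).natDegree :=
  minpoly.natDegree_pos isIntegral_gen

/-- An additive polynomial. -/
theorem taylor_of_additive (hgen : Algebra.adjoin K {h} = ⊤) [Nontrivial A]
    (hadd : aeval (h ⊗ₜ[K] (1 : A) + (1 : A) ⊗ₜ[K] h) (minpoly K h) = 0) :
    (minpoly K h).coeff 0 = 0 ∧
      ∀ j, 0 < j → hasseDeriv j (minpoly K h) = C ((minpoly K h).coeff j) := by
  set f := minpoly K h with hf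
  have hmon : f.Monic := minpoly.monic (isIntegral_gen (h := h))
  have hexp : ∑ j ∈ Finset.range (f.natDegree + 1),
      aeval h (hasseDeriv j f) ⊗ₜ[K] (h ^ j) = (0 : A ⊗[K] A) := by
    let x : A ⊗[K] A := h ⊗ₜ 1
    let y : A ⊗[K] A := 1 ⊗ₜ h
    have h1 : aeval (y + x) f = 0 := by rw [add_comm]; exact hadd
    rw [aeval_def, eval₂_eq_eval_map] at h1
    rw [← taylor_eval, eval_eq_sum_range' (n := f.natDegree + 1)] at h1
    · refine Eq.trans (Finset.sum_congr rfl fun j _ => ?_) h1
      rw [taylor_coeff, hasseDeriv_map_ring, eval_map_algebraMap,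
        show x = (Algebra.TensorProduct.includeLeft : A →ₐ[K] A ⊗[K] A) h from rfl, aeval_algHom_apply]
      show _ = (aeval h (hasseDeriv j f)) ⊗ₜ[K] (1 : A) * ((1 : A) ⊗ₜ[K] h) ^ j
      rw [Algebra.TensorProduct.tmul_pow, one_pow, Algebra.TensorProduct.tmul_mul_tmul, mul_one,
        one_mul]
    · rw [natDegree_taylor]
      exact Nat.lt_succ_of_le natDegree_map_le
  have key : ∀ j < f.natDegree, aeval h (hasseDeriv j f) = algebraMap K A (f.coeff j) := by
    intro j hj
    obtain ⟨φ, hφ, hφn⟩ := exists_functional hgen j hj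
    let L : A ⊗[K] A →ₗ[K] A :=
      (Algebra.TensorProduct.rid K K A).toLinearMap ∘ₗ LinearMap.lTensor A φ
    have hL : ∀ a b : A, L (a ⊗ₜ b) = φ b • a := fun a b => by simp [L]
    have h2 := congrArg L hexp
    rw [map_sum, map_zero, Finset.sum_range_succ] at h2
    simp only [hL] at h2
    rw [Finset.sum_eq_single j, hφ j hj, if_pos rfl, one_smul, hφn, hasseDeriv_natDegree_eq_C,
      hmon.leadingCoeff, map_one, map_one, neg_smul, ← Algebra.algebraMap_eq_smul_one,
      ← sub_eq_add_neg, sub_eq_zero] at h2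
    · exact h2
    · intro k hk hkj
      rw [hφ k (Finset.mem_range.mp hk), if_neg hkj, zero_smul]
    · exact fun hnj => absurd (Finset.mem_range.mpr hj) hnj
  constructor
  · have := key 0 natDegree_minpoly_pos
    rw [hasseDeriv_zero', hf, minpoly.aeval, ← hf] at this
    exact (algebraMap K A).injective (by rw [← this, map_zero])
  · intro j hj0
    rcases lt_trichotomy j f.natDegree with hj | rfl | hj
    · have hz : aeval h (hasseDeriv j f - C (f.coeff j)) = 0 := by
        rw [map_sub, key j hj, aeval_C, sub_self]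
      by_contra hne
      have := natDegree_le_of_dvd (minpoly.dvd K h hz) (sub_ne_zero.mpr hne)
      rw [natDegree_sub_C] at this
      have := natDegree_hasseDeriv_le f j
      rw [← hf] at *
      omega
    · exact hasseDeriv_natDegree_eq_C _
    · rw [coeff_eq_zero_of_natDegree_lt hj, map_zero, hasseDeriv_eq_zero_of_lt_natDegree _ _ hj]

/-- The multiplicative case: the minimal polynomial is `X ^ n - 1`. -/
theorem eq_X_pow_sub_one (hgen : Algebra.adjoin K {h} = ⊤) (hunit : IsUnit h) [Nontrivial A]
    (hmul : aeval (h ⊗ₜ[K] h) (minpoly K h) = (0 : A ⊗[K] A)) :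
    minpoly K h = X ^ (minpoly K h).natDegree - 1 := by
  set f := minpoly K h with hf
  have hmon : f.Monic := minpoly.monic (isIntegral_gen (h := h))
  have hn : 0 < f.natDegree := natDegree_minpoly_pos
  have h0 : f.coeff 0 ≠ 0 := by
    intro hc
    obtain ⟨g, hg⟩ := X_dvd_iff.mpr hc
    have hz := minpoly.aeval K h
    rw [← hf, hg, map_mul, aeval_X, hunit.mul_right_eq_zero] at hz
    have hg0 : g ≠ 0 := by rintro rfl; rw [mul_zero] at hg; exact hmon.ne_zero hg
    have := natDegree_le_of_dvd (minpoly.dvd K h hz) hg0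
    rw [← hf, hg, natDegree_X_mul hg0] at this
    omega
  rw [aeval_eq_sum_range] at hmul
  simp only [Algebra.TensorProduct.tmul_pow] at hmul
  have key : ∀ i j, i < f.natDegree → j < f.natDegree →
      (if i = j then f.coeff i else 0) + f.coeff i * f.coeff j = 0 := by
    intro i j hi hj
    obtain ⟨φ, hφ, hφn⟩ := exists_functional hgen i hi
    obtain ⟨ψ, hψ, hψn⟩ := exists_functional hgen j hj
    rw [← hf] at hφ hφn hψ hψn
    let L : A ⊗[K] A →ₗ[K] K := (TensorProduct.lid K K).toLinearMap ∘ₗ TensorProduct.map φ ψ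
    have hL : ∀ a b : A, L (a ⊗ₜ b) = φ a * ψ b := fun a b => by simp [L]
    have h2 := congrArg L hmul
    rw [map_sum, map_zero, Finset.sum_range_succ] at h2
    simp only [map_smul, hL, smul_eq_mul] at h2
    rw [Finset.sum_eq_single i, hmon.coeff_natDegree, hφn, hψn, hφ i hi, hψ i hi, if_pos rfl] at h2
    · split_ifs at h2 ⊢ with hij <;> linear_combination h2
    · intro k hk hki
      rw [hφ k (Finset.mem_range.mp hk), if_neg hki]
      simp
    · exact fun hni => absurd (Finset.mem_range.mpr hi) hni
  have hc0 : f.coeff 0 = -1 := by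
    have := key 0 0 hn hn
    rw [if_pos rfl] at this
    rcases mul_eq_zero.mp (show f.coeff 0 * (1 + f.coeff 0) = 0 by linear_combination this) with h' | h'
    · exact absurd h' h0
    · linear_combination h'
  refine Polynomial.ext fun k => ?_
  rw [coeff_sub, coeff_X_pow, coeff_one]
  rcases lt_trichotomy k f.natDegree with hk | rfl | hk
  · rw [if_neg hk.ne]
    rcases Nat.eq_zero_or_pos k with rfl | hkp
    · rw [if_pos rfl, hc0, zero_sub]
    · have := key 0 k hn hk
      rw [if_neg hkp.ne, hc0] at this
      rw [if_neg hkp.ne', sub_zero]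
      linear_combination -this
  · rw [if_pos rfl, if_neg hn.ne', hmon.coeff_natDegree, sub_zero]
  · rw [if_neg hk.ne', if_neg (by omega), coeff_eq_zero_of_natDegree_lt hk, sub_zero]

/-- Evaluation of an additive polynomial is additive. -/
theorem aeval_add_of_hasseDeriv {f : K[X]} (h0 : f.coeff 0 = 0)
    (hD : ∀ j, 0 < j → hasseDeriv j f = C (f.coeff j)) {B : Type u} [CommRing B] [Algebra K B]
    (x y : B) : aeval (x + y) f = aeval x f + aeval y f := by
  have hT : taylor y (f.map (algebraMap K B)) = f.map (algebraMap K B) + C (aeval y f) := by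
    refine Polynomial.ext fun j => ?_
    rw [coeff_add, coeff_C, coeff_map]
    rcases Nat.eq_zero_or_pos j with rfl | hj
    · rw [taylor_coeff_zero, h0, map_zero, zero_add, if_pos rfl, eval_map_algebraMap]
    · rw [taylor_coeff, hasseDeriv_map_ring, eval_map_algebraMap, hD j hj, aeval_C, if_neg hj.ne', add_zero]
  rw [← eval_map_algebraMap, ← taylor_eval, hT, eval_add, eval_C, eval_map_algebraMap]

end Groth.Agent.FinSub96
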