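import Groth.Prelude.Def_AlgGrp
import Mathlib.AlgebraicGeometry.Morphisms.Affine
import Mathlib.AlgebraicGeometry.Morphisms.ClosedImmersion

/-!
Points with values in affine schemes over a field, as algebra homomorphisms into global sections.
-/

universe u

open CategoryTheory MonoidalCategory CartesianMonoidalCategory MonObj AlgebraicGeometry

namespace Groth.Agent.FinSub96

variable {K : Type u} [Field K]

set_option autoImplicit false

/-- The affine scheme of an algebra, over the base field. -/
noncomputable abbrev sp (R : Type u) [CommRing R] [Algebra K R] : Over (Spec (CommRingCat.of K)) :=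
  Over.mk (Spec.map (CommRingCat.ofHom (algebraMap K R)))

/-- The algebra structure on global sections. -/
@[instance_reducible]
noncomputable def secAlg (T : Over (Spec (CommRingCat.of K))) : Algebra K Γ(T.left, ⊤) :=
  (T.hom.appTop.hom.comp (Scheme.ΓSpecIso (CommRingCat.of K)).inv.hom).toAlgebra

attribute [scoped instance] secAlg

variable {R R' : Type u} [CommRing R] [Algebra K R] [CommRing R'] [Algebra K R'] {T T' : Over (Spec (CommRingCat.of K))}

theorem algebraMap_sec (k : K) :
    algebraMap K Γ(T.left, ⊤) k = T.hom.appTop ((Scheme.ΓSpecIso (CommRingCat.of K)).inv k) := rfl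

/-- Pullback of global sections along a morphism over the base. -/
noncomputable def secMap (g : T' ⟶ T) : Γ(T.left, ⊤) →ₐ[K] Γ(T'.left, ⊤) where
  __ := g.left.appTop.hom
  commutes' k := by
    rw [algebraMap_sec, algebraMap_sec, ← Over.w g, Scheme.Hom.comp_appTop]
    rfl

theorem secMap_apply (g : T' ⟶ T) (a : Γ(T.left, ⊤)) : secMap g a = g.left.appTop a := rfl

/-- Global functions on the affine scheme of an algebra. -/
noncomputable def toSec (R : Type u) [CommRing R] [Algebra K R] :
    R →ₐ[K] Γ((sp (K := K) R).left, ⊤) where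
  __ := (Scheme.ΓSpecIso (CommRingCat.of R)).inv.hom
  commutes' k :=
    congr($(Scheme.ΓSpecIso_inv_naturality (CommRingCat.ofHom (algebraMap K R))) k)

theorem toSec_apply (a : R) :
    toSec (K := K) R a = (Scheme.ΓSpecIso (CommRingCat.of R)).inv a := rfl

theorem toSec_bijective : Function.Bijective (toSec (K := K) R) :=
  ConcreteCategory.bijective_of_isIso (Scheme.ΓSpecIso (CommRingCat.of R)).inv

/-- The homomorphism attached to a point. -/
noncomputable def pt (x : T ⟶ sp R) : R →ₐ[K] Γ(T.left, ⊤) := (secMap x).comp (toSec R)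

theorem pt_comp (g : T' ⟶ T) (x : T ⟶ sp R) : pt (g ≫ x) = (secMap g).comp (pt x) := by
  refine AlgHom.ext fun a => ?_
  show (g.left ≫ x.left).appTop _ = g.left.appTop (x.left.appTop _)
  rw [Scheme.Hom.comp_appTop]
  rfl

theorem pt_id : pt (𝟙 (sp R)) = toSec (K := K) R := by
  refine AlgHom.ext fun a => ?_
  show Scheme.Hom.appTop (𝟙 (Spec (CommRingCat.of R))) (toSec (K := K) R a) = toSec R a
  simp

theorem pt_injective {x y : T ⟶ sp R} (h : pt x = pt y) : x = y := by
  have : IsAffine (sp (K := K) R).left := inferInstanceAs (IsAffine (Spec (CommRingCat.of R)))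
  apply Over.OverMorphism.ext
  apply ext_of_isAffine
  ext a
  obtain ⟨b, rfl⟩ := (toSec_bijective (K := K) (R := R)).surjective a
  exact DFunLike.congr_fun h b

/-- The morphism of affine schemes attached to an algebra homomorphism. -/
noncomputable def spMap (ψ : R →ₐ[K] R') : sp (K := K) R' ⟶ sp R :=
  Over.homMk (Spec.map (CommRingCat.ofHom ψ.toRingHom)) (by
    show Spec.map _ ≫ Spec.map _ = Spec.map _
    rw [← Spec.map_comp, ← CommRingCat.ofHom_comp]
    exact congrArg (fun f => Spec.map (CommRingCat.ofHom f)) ψ.comp_algebraMap)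

theorem secMap_spMap (ψ : R →ₐ[K] R') (a : R) :
    secMap (spMap ψ) (toSec R a) = toSec R' (ψ a) :=
  (congr($(Scheme.ΓSpecIso_inv_naturality (CommRingCat.ofHom ψ.toRingHom)) a)).symm

theorem pt_spMap (ψ : R →ₐ[K] R') : pt (spMap ψ) = (toSec R').comp ψ :=
  AlgHom.ext fun a => secMap_spMap ψ a

theorem pt_comp_spMap (x : T ⟶ sp R') (ψ : R →ₐ[K] R') : pt (x ≫ spMap ψ) = (pt x).comp ψ := by
  rw [pt_comp, pt_spMap]
  rfl

/-- The canonical map to the spectrum of global sections. -/
noncomputable def toSp (T : Over (Spec (CommRingCat.of K))) : T ⟶ sp (Γ(T.left, ⊤) : Type u) :=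
  Over.homMk T.left.toSpecΓ (by
    show T.left.toSpecΓ ≫ Spec.map ((Scheme.ΓSpecIso (CommRingCat.of K)).inv ≫ T.hom.appTop) = T.hom
    rw [Spec.map_comp, ← Scheme.toSpecΓ_naturality_assoc, toSpecΓ_SpecMap_ΓSpecIso_inv,
      Category.comp_id])

theorem pt_toSp (T : Over (Spec (CommRingCat.of K))) : pt (toSp T) = AlgHom.id K _ := by
  refine AlgHom.ext fun a => ?_
  show T.left.toSpecΓ.appTop ((Scheme.ΓSpecIso Γ(T.left, ⊤)).inv a) = a
  rw [Scheme.toSpecΓ_appTop]
  exact congr($((Scheme.ΓSpecIso Γ(T.left, ⊤)).inv_hom_id) a)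

/-- The point attached to an algebra homomorphism. -/
noncomputable def ofHom (φ : R →ₐ[K] Γ(T.left, ⊤)) : T ⟶ sp R := toSp T ≫ spMap φ

theorem pt_ofHom (φ : R →ₐ[K] Γ(T.left, ⊤)) : pt (ofHom φ) = φ := by
  rw [ofHom, pt_comp_spMap, pt_toSp]
  rfl

theorem ofHom_pt (x : T ⟶ sp R) : ofHom (pt x) = x := pt_injective (pt_ofHom _)

theorem exists_eq_spMap (x : sp (K := K) R' ⟶ sp R) : ∃ ψ : R →ₐ[K] R', x = spMap ψ := by
  refine ⟨((AlgEquiv.ofBijective (toSec (K := K) R') toSec_bijective).symm.toAlgHom).comp (pt x),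
    pt_injective ?_⟩
  rw [pt_spMap]
  refine AlgHom.ext fun a => ?_
  exact ((AlgEquiv.ofBijective (toSec (K := K) R') toSec_bijective).apply_symm_apply (pt x a)).symm

end Groth.Agent.FinSub96
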