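import Mathlib
import Groth.Prelude.Def_Red2
import Groth.Agent.RedPts82.Points
import Groth.Agent.FinSub96.Pts
import Groth.Agent.FinSub96.Poly

/-!
Finite subgroup schemes of the additive and multiplicative groups over a field are kernels of
faithfully flat endomorphisms.
-/

universe u

open CategoryTheory MonoidalCategory CartesianMonoidalCategory MonObj AlgebraicGeometry
open Polynomial TensorProduct Groth.Agent.FinSub96

set_option autoImplicit false

namespace Groth.Agent.FinSub96

variable {K : Type u} [Field K] {G H : Over (Spec (CommRingCat.of K))}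
  {R : Type u} [CommRing R] [Algebra K R] (e : G ≅ sp R) (c : R)

/-- The coordinate of a point. -/
noncomputable def val {T : Over (Spec (CommRingCat.of K))} (x : T ⟶ G) : Γ(T.left, ⊤) :=
  pt (x ≫ e.hom) c

theorem val_comp {T T' : Over (Spec (CommRingCat.of K))} (g : T' ⟶ T) (x : T ⟶ G) :
    val e c (g ≫ x) = secMap g (val e c x) := by
  rw [val, val, Category.assoc, pt_comp]
  rfl

variable (hext : ∀ {B : Type u} [CommRing B] [Algebra K B] (φ φ' : R →ₐ[K] B), φ c = φ' c → φ = φ')

include hext in
theorem val_injective {T : Over (Spec (CommRingCat.of K))} {x y : T ⟶ G}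
    (h : val e c x = val e c y) : x = y :=
  (cancel_mono e.hom).mp (pt_injective (hext _ _ h))

theorem isAffine_left [IsFinite H.hom] : IsAffine H.left := isAffine_of_isAffineHom H.hom

theorem finite_sec [IsFinite H.hom] : Module.Finite K Γ(H.left, ⊤) := by
  show RingHom.Finite (H.hom.appTop.hom.comp (Scheme.ΓSpecIso (CommRingCat.of K)).inv.hom)
  exact RingHom.Finite.comp H.hom.finite_appTop
    (RingHom.Finite.of_surjective _
      (ConcreteCategory.bijective_of_isIso (Scheme.ΓSpecIso (CommRingCat.of K)).inv).surjective)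

theorem nontrivial_sec [GrpObj H] : Nontrivial (Γ(H.left, ⊤) : Type u) := by
  have : Nontrivial Γ(Spec (CommRingCat.of K), ⊤) :=
    (Scheme.ΓSpecIso (CommRingCat.of K)).commRingCatIsoToRingEquiv.toEquiv.nontrivial
  have : Nontrivial Γ((𝟙_ (Over (Spec (CommRingCat.of K)))).left, ⊤) := this
  exact (Scheme.Hom.appTop (η[H] : 𝟙_ _ ⟶ H).left).hom.domain_nontrivial

theorem isIso_toSp [IsFinite H.hom] : IsIso (toSp H) := by
  have := isAffine_left (H := H)
  have : IsIso ((Over.forget _).map (toSp H)) := inferInstanceAs (IsIso H.left.toSpecΓ)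
  exact isIso_of_reflects_iso (toSp H) (Over.forget _)

theorem pt_surjective [IsFinite H.hom] (i : H ⟶ G) [Mono i] :
    Function.Surjective (pt (i ≫ e.hom)) := by
  have : IsAffine (sp (K := K) R).left := inferInstanceAs (IsAffine (Spec (CommRingCat.of R)))
  have : IsSeparated (sp (K := K) R).hom :=
    inferInstanceAs (IsSeparated (Spec.map (CommRingCat.ofHom (algebraMap K R))))
  have hfin : IsFinite ((i ≫ e.hom).left ≫ (sp (K := K) R).hom) := by
    rw [Over.w]; infer_instance
  have : IsFinite (i ≫ e.hom).left := IsFinite.of_comp _ (sp (K := K) R).hom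
  have : Mono (i ≫ e.hom).left := inferInstance
  have : IsClosedImmersion (i ≫ e.hom).left :=
    (IsClosedImmersion.iff_isFinite_and_mono _).mpr ⟨inferInstance, inferInstance⟩
  exact (IsClosedImmersion.isAffine_surjective_of_isAffine (f := (i ≫ e.hom).left)).2.comp toSec_bijective.surjective

include hext in
/-- A finite subgroup is the kernel of an endomorphism given by a polynomial in the coordinate. -/
theorem exists_endo [GrpObj G] [GrpObj H] [IsFinite H.hom] (i : H ⟶ G) [IsMonHom i] [Mono i]
    (hgen : Algebra.adjoin K {val e c i} = ⊤) (g : K[X]) (ψ : R →ₐ[K] R)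
    (hψ : ψ c = aeval c g) (hflat : ψ.toRingHom.Flat)
    (hsurj : Function.Surjective (PrimeSpectrum.comap ψ.toRingHom))
    (hhom : ∀ (T : Over (Spec (CommRingCat.of K))) (x y x' y' : T ⟶ G),
      val e c x' = aeval (val e c x) g → val e c y' = aeval (val e c y) g →
      aeval (val e c (x * y)) g = val e c (x' * y'))
    (hker : ∀ (T : Over (Spec (CommRingCat.of K))) (x : T ⟶ G),
      aeval (val e c x) g = val e c (1 : T ⟶ G) ↔
        aeval (val e c x) (minpoly K (val e c i)) = 0) :
    ∃ φ : G ⟶ G, IsMonHom φ ∧ AlgGrp.IsKernel i φ ∧ Flat φ.left ∧ Surjective φ.left := by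
  let φ : G ⟶ G := e.hom ≫ spMap ψ ≫ e.inv
  have hφval : ∀ (T : Over (Spec (CommRingCat.of K))) (x : T ⟶ G),
      val e c (x ≫ φ) = aeval (val e c x) g := by
    intro T x
    have : (x ≫ φ) ≫ e.hom = (x ≫ e.hom) ≫ spMap ψ := by simp [φ]
    rw [val, this, pt_comp_spMap, AlgHom.comp_apply, hψ, ← aeval_algHom_apply]
    rfl
  refine ⟨φ, ?_, ?_, ?_, ?_⟩
  · refine RedPts82.isMonHom_of_points φ fun T x y => val_injective e c hext ?_
    rw [hφval]
    exact hhom T x y _ _ (hφval T x) (hφval T y)
  · have hone : ∀ (T : Over (Spec (CommRingCat.of K))), toUnit T ≫ η[G] = (1 : T ⟶ G) :=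
      fun T => (Hom.one_def).symm
    have w : i ≫ φ = toUnit H ≫ η[G] := by
      rw [hone]
      exact val_injective e c hext (by rw [hφval, (hker H i).mpr (minpoly.aeval K _)])
    have := isIso_toSp (H := H)
    have := finite_sec (H := H)
    have hlift : ∀ (T : Over (Spec (CommRingCat.of K))) (x : T ⟶ G), x ≫ φ = toUnit T ≫ η[G] →
        ∃ l : T ⟶ H, l ≫ i = x := by
      intro T x hx
      rw [hone] at hx
      have hf : aeval (val e c x) (minpoly K (val e c i)) = 0 :=
        (hker T x).mp (by rw [← hφval, hx])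
      let gam : Γ(H.left, ⊤) →ₐ[K] Γ(T.left, ⊤) :=
        (AdjoinRoot.liftAlgHom (minpoly K (val e c i)) (Algebra.ofId K _) (val e c x) hf).comp
          (presentation hgen).symm.toAlgHom
      have hgam : gam (val e c i) = val e c x := by
        show AdjoinRoot.liftAlgHom (minpoly K (val e c i)) (Algebra.ofId K _) (val e c x) hf ((presentation hgen).symm (val e c i)) = _
        rw [(presentation hgen).symm_apply_eq.mpr (presentation_root hgen).symm]
        exact AdjoinRoot.liftAlgHom_root (p := minpoly K (val e c i)) (Algebra.ofId K _) _ hf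
      refine ⟨ofHom gam ≫ inv (toSp H), val_injective e c hext ?_⟩
      rw [val_comp]
      have hs : secMap (ofHom gam ≫ inv (toSp H)) = gam := by
        have h1 := pt_comp (ofHom gam ≫ inv (toSp H)) (toSp H)
        rw [pt_toSp, Category.assoc, IsIso.inv_hom_id, Category.comp_id, pt_ofHom] at h1
        exact (AlgHom.comp_id _).symm.trans h1.symm
      rw [hs, hgam]
    refine IsPullback.of_isLimit' ⟨w⟩ (Limits.PullbackCone.IsLimit.mk w
      (fun s => (hlift s.pt s.fst (s.condition.trans (congrArg (· ≫ η[G]) (toUnit_unique _ _)))).choose)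
      (fun s => (hlift s.pt s.fst (s.condition.trans (congrArg (· ≫ η[G]) (toUnit_unique _ _)))).choose_spec)
      (fun s => toUnit_unique _ _) (fun s m hm _ => ?_))
    rw [← cancel_mono i, hm]
    exact (hlift s.pt s.fst (s.condition.trans (congrArg (· ≫ η[G]) (toUnit_unique _ _)))).choose_spec.symm
  · have : IsIso e.hom.left := inferInstanceAs (IsIso ((Over.forget _).map e.hom))
    have : IsIso e.inv.left := inferInstanceAs (IsIso ((Over.forget _).map e.inv))
    have : Flat (spMap (K := K) ψ).left := Flat.SpecMap_iff.mpr hflat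
    show Flat (e.hom.left ≫ (spMap ψ).left ≫ e.inv.left)
    infer_instance
  · have : IsIso e.hom.left := inferInstanceAs (IsIso ((Over.forget _).map e.hom))
    have : IsIso e.inv.left := inferInstanceAs (IsIso ((Over.forget _).map e.inv))
    have : Surjective (spMap (K := K) ψ).left := ⟨hsurj⟩
    show Surjective (e.hom.left ≫ (spMap ψ).left ≫ e.inv.left)
    infer_instance

theorem secMap_comp {T₁ T₂ T₃ : Over (Spec (CommRingCat.of K))} (g : T₁ ⟶ T₂) (g' : T₂ ⟶ T₃)
    (a : Γ(T₃.left, ⊤)) : secMap (g ≫ g') a = secMap g (secMap g' a) := by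
  simp only [secMap_apply, Over.comp_left, Scheme.Hom.comp_appTop]
  rfl

theorem secMap_inv_toSp [IsFinite H.hom] :
    haveI := isIso_toSp (H := H)
    ∀ a, secMap (inv (toSp H)) a = toSec (K := K) (Γ(H.left, ⊤) : Type u) a := by
  have := isIso_toSp (H := H)
  intro a
  have h1 := pt_comp (inv (toSp H)) (toSp H)
  rw [pt_toSp, IsIso.inv_hom_id, pt_id] at h1
  exact (DFunLike.congr_fun h1 a).symm

theorem aeval_law_aux [GrpObj G] [GrpObj H] (i : H ⟶ G) [IsMonHom i]
    {B : Type u} [CommRing B] [Algebra K B] (p q : sp (K := K) B ⟶ H) (a b z : B)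
    (hp : secMap p (val e c i) = toSec B a) (hq : secMap q (val e c i) = toSec B b)
    (hz : ∀ x y : sp (K := K) B ⟶ G, val e c x = toSec B a → val e c y = toSec B b →
      val e c (x * y) = toSec B z) :
    aeval z (minpoly K (val e c i)) = 0 := by
  apply (toSec_bijective (K := K) (R := B)).injective
  rw [map_zero, ← aeval_algHom_apply, ← hz (p ≫ i) (q ≫ i) (by rw [val_comp, hp])
    (by rw [val_comp, hq]), ← MonObj.mul_comp p q i, val_comp, aeval_algHom_apply, minpoly.aeval,
    map_zero]

theorem tensor_law_add [GrpObj G] [GrpObj H] (i : H ⟶ G) [IsMonHom i]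
    {A : Type u} [CommRing A] [Algebra K A] (π' : sp (K := K) A ⟶ H) (h : A)
    (hπ : secMap π' (val e c i) = toSec A h)
    (hadd : ∀ (T : Over (Spec (CommRingCat.of K))) (x y : T ⟶ G),
      val e c (x * y) = val e c x + val e c y) :
    aeval (h ⊗ₜ[K] (1 : A) + (1 : A) ⊗ₜ[K] h) (minpoly K (val e c i)) = 0 :=
  aeval_law_aux e c i (spMap Algebra.TensorProduct.includeLeft ≫ π')
    (spMap Algebra.TensorProduct.includeRight ≫ π') (h ⊗ₜ[K] (1 : A)) ((1 : A) ⊗ₜ[K] h) _
    (by rw [secMap_comp, hπ, secMap_spMap]; rfl) (by rw [secMap_comp, hπ, secMap_spMap]; rfl)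
    (fun x y hx hy => by rw [hadd, hx, hy, map_add])

theorem tensor_law_mul [GrpObj G] [GrpObj H] (i : H ⟶ G) [IsMonHom i]
    {A : Type u} [CommRing A] [Algebra K A] (π' : sp (K := K) A ⟶ H) (h : A)
    (hπ : secMap π' (val e c i) = toSec A h)
    (hmul : ∀ (T : Over (Spec (CommRingCat.of K))) (x y : T ⟶ G),
      val e c (x * y) = val e c x * val e c y) :
    aeval (h ⊗ₜ[K] h) (minpoly K (val e c i)) = 0 :=
  aeval_law_aux e c i (spMap Algebra.TensorProduct.includeLeft ≫ π')
    (spMap Algebra.TensorProduct.includeRight ≫ π') (h ⊗ₜ[K] (1 : A)) ((1 : A) ⊗ₜ[K] h) _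
    (by rw [secMap_comp, hπ, secMap_spMap]; rfl) (by rw [secMap_comp, hπ, secMap_spMap]; rfl)
    (fun x y hx hy => by
      rw [hmul, hx, hy, ← map_mul, Algebra.TensorProduct.tmul_mul_tmul, _root_.mul_one, _root_.one_mul])

theorem flat_of_injective {A B : Type u} [CommRing A] [CommRing B] [IsDedekindDomain A] [IsDomain B]
    (φ : A →+* B) (hφ : Function.Injective φ) : φ.Flat := by
  algebraize [φ]
  show Module.Flat A B
  rw [IsDedekindDomain.flat_iff_torsion_eq_bot, eq_bot_iff]
  rintro x ⟨⟨a, ha⟩, hax⟩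
  have h : φ a * x = 0 := hax
  exact (mul_eq_zero.mp h).resolve_left
    (fun h0 => nonZeroDivisors.ne_zero ha (hφ (h0.trans (map_zero φ).symm)))

end Groth.Agent.FinSub96
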